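import Groth.Agent.H23.PushClass
import Groth.Agent.H23.RatOn
import Groth.Agent.CycLib.Finite
import Groth.Agent.CycLib.Envelope
import Groth.Agent.ModPairLib.CoprodAdm
import Groth.Agent.GrpSchLib.TwConstClosed

/-! Bivariant classes vanishing on subvarieties. -/

set_option autoImplicit false
set_option linter.style.haveILetI false
set_option backward.isDefEq.respectTransparency false
set_option backward.isDefEq.respectTransparency.types false

universe u

open AlgebraicGeometry CategoryTheory Limits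
open Groth.Agent.H23

namespace Groth.Agent.BivVan

variable {X Y : Scheme.{u}}

theorem ratEquivZero_of_cl_eq_zero {δ : X → ℤ} (hX : Cyc.IsSetup X δ) {k : ℤ} {α : AlgebraicCycle X ℤ}
    (hα : α ∈ Cyc.Zk X δ k) (h : ChowOps.cl α hα = 0) : Cyc.RatEquivZero δ k α := by
  haveI := hX.1
  have hm : (⟨α, hα⟩ : ↥(ChowOps.zk X δ k)) ∈ ChowOps.ratTriv X δ k := (QuotientAddGroup.eq_zero_iff _).1 h
  have : RatOn.ZeroOn δ k Set.univ ⇑(((⟨α, hα⟩ : ↥(ChowOps.zk X δ k)) : AlgebraicCycle X ℤ)) := by
    clear h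
    generalize (⟨α, hα⟩ : ↥(ChowOps.zk X δ k)) = a at hm ⊢
    induction hm using AddSubgroup.closure_induction with
    | mem x hx => exact RatOn.of_ratEquivZero hx
    | zero => exact RatOn.congr (RatOn.zero Set.univ) fun _ => rfl
    | add x y _ _ hx hy =>
      exact RatOn.congr (RatOn.add hX.2.2 hx hy 1 1) fun z => by
        simp [Function.locallyFinsuppWithin.coe_add]
    | neg x _ hx =>
      exact RatOn.congr (RatOn.add hX.2.2 hx (RatOn.zero Set.univ) (-1) 1) fun z => by
        simp [Function.locallyFinsuppWithin.coe_neg]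
  exact RatOn.ratEquivZero this

/-- An integral closed subscheme with a given generic point. -/
theorem exists_integral_closed (ξ : X) :
    ∃ (Z : Scheme.{u}) (ι : Z ⟶ X) (_ : IsClosedImmersion ι) (_ : IsIntegral Z), ι (genericPoint Z) = ξ := by
  let J : X.IdealSheafData := Scheme.IdealSheafData.vanishingIdeal ⟨closure {ξ}, isClosed_closure⟩
  have hr : Set.range J.subschemeι = closure {ξ} := by
    rw [J.range_subschemeι]
    rfl
  obtain ⟨z, hz⟩ : ξ ∈ Set.range J.subschemeι := hr ▸ subset_closure rfl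
  have h2 : closure ({z} : Set J.subscheme) = Set.univ := by
    rw [J.subschemeι.isClosedEmbedding.isInducing.closure_eq_preimage_closure_image, Set.image_singleton,
      hz, ← hr, Set.preimage_range]
  haveI : IrreducibleSpace J.subscheme := by
    refine (irreducibleSpace_def _).2 ?_
    rw [Set.top_eq_univ, ← h2]
    exact isIrreducible_singleton.closure
  haveI : IsIntegral J.subscheme := isIntegral_of_irreducibleSpace_of_isReduced _
  refine ⟨J.subscheme, J.subschemeι, inferInstance, inferInstance, ?_⟩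
  rw [← hz]
  exact congrArg _ ((genericPoint_spec J.subscheme).eq (show IsGenericPoint z ⊤ from h2))

open Classical in
/-- The cycle `n[x]`. -/
noncomputable def pt (x : X) (n : ℤ) : AlgebraicCycle X ℤ where
  toFun y := if y = x then n else 0
  supportWithinDomain' := fun _ _ => trivial
  supportLocallyFiniteWithinDomain' := fun z _ => ⟨Set.univ, Filter.univ_mem, (Set.finite_singleton x).subset
    fun y hy => by
      by_contra h
      exact hy.2 (if_neg h)⟩

theorem pt_self (x : X) (n : ℤ) : pt x n x = n := if_pos rfl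

theorem pt_ne {x y : X} (n : ℤ) (h : y ≠ x) : pt x n y = 0 := if_neg h

theorem pt_mem (x : X) (n : ℤ) {δ : X → ℤ} {k : ℤ} (h : δ x = k) : pt x n ∈ Cyc.Zk X δ k :=
  fun y hy => pt_ne n fun e => hy (e ▸ h)

theorem map_pt (f : X ⟶ Y) [QuasiCompact f] [LocallyOfFiniteType f] {δX : X → ℤ} {δY : Y → ℤ}
    (hδ : Cyc.DeltaCompat f δX δY) (x : X) (hx : Function.Surjective (f.residueFieldMap x).hom) :
    AlgebraicCycle.map f δX δY (pt x 1) = pt (f x) 1 := by
  classical
  refine DFunLike.ext _ _ fun y => ?_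
  rw [CycLib.map_apply']
  by_cases hy : y = f x
  · subst hy
    rw [pt_self, finsum_mem_eq_sum_of_inter_support_eq _ (t := {x}) ?_, Finset.sum_singleton, pt_self,
      one_mul]
    · simp [AlgebraicCycle.mapCoeff, CycLib.delta_eq_of_surjective f hδ hx,
        CycLib.residueDegree_of_surjective f hx]
    ext w
    simp only [Set.mem_inter_iff, Set.mem_preimage, Set.mem_singleton_iff, Function.mem_support,
      Finset.coe_singleton]
    refine ⟨fun ⟨h1, h2⟩ => ⟨by_contra fun hne => h2 (by rw [pt_ne 1 hne, zero_mul]), h2⟩,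
      fun ⟨h1, h2⟩ => ⟨by rw [h1], h2⟩⟩
  · rw [pt_ne 1 hy]
    exact finsum_mem_eq_zero_of_forall_eq_zero fun w hw => by
      rw [pt_ne 1 fun e => hy (by rw [← Set.mem_singleton_iff.1 hw, e]), zero_mul]

theorem residueFieldMap_surjective_of_isIso (f : X ⟶ Y) (x : X) [IsIso (f.stalkMap x)] :
    Function.Surjective (f.residueFieldMap x).hom := by
  intro a
  obtain ⟨b, rfl⟩ := X.residue_surjective x a
  obtain ⟨c, rfl⟩ := (asIso (f.stalkMap x)).commRingCatIsoToRingEquiv.surjective b
  refine ⟨Y.residue (f x) c, ?_⟩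
  exact congrArg (fun φ : Y.presheaf.stalk (f x) ⟶ X.residueField x => φ.hom c) (Scheme.residue_residueFieldMap f x)

theorem hasRelDim_openImmersion (j : X ⟶ Y) [IsOpenImmersion j] : Cyc.HasRelDim j 0 :=
  (CycLib.hasRelDim_iff j).2 fun x _ => CycLib.rd_eq_zero_of_finite j x
    (RingHom.Finite.of_surjective _ (residueFieldMap_surjective_of_isIso j x))

theorem pullFun_openImmersion (j : X ⟶ Y) [IsOpenImmersion j] {δX : X → ℤ} {δY : Y → ℤ}
    (hδ : Cyc.DeltaCompat j δX δY) (α : Y → ℤ) (x : X) : Cyc.pullFun j δX δY 0 α x = α (j x) := by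
  have he : δX x = δY (j x) + 0 := by
    rw [add_zero, CycLib.delta_eq_of_surjective j hδ (residueFieldMap_surjective_of_isIso j x)]
  rw [Cyc.pullFun, if_pos he]
  have hs : Function.Surjective (j.stalkMap x).hom :=
    (asIso (j.stalkMap x)).commRingCatIsoToRingEquiv.surjective
  haveI hmax : (Ideal.map (j.stalkMap x).hom (IsLocalRing.maximalIdeal (Y.presheaf.stalk (j x)))).IsMaximal := by
    rw [IsLocalRing.map_maximalIdeal_of_surjective _ hs]
    infer_instance
  haveI : IsSimpleModule (X.presheaf.stalk x) (X.presheaf.stalk x ⧸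
      Ideal.map (j.stalkMap x).hom (IsLocalRing.maximalIdeal (Y.presheaf.stalk (j x)))) :=
    isSimpleModule_iff_isCoatom.2 (Ideal.isMaximal_def.1 hmax)
  rw [Module.length_eq_one]
  simp

variable {f : X ⟶ Y} {δX : X → ℤ} {δY : Y → ℤ} {p : ℤ}

theorem op_eq_zero_integral (hX : Cyc.IsSetup X δX) (c : Bivar.Cl p f δX δY) (s : Bivar.Sq f δX δY)
    [IsIntegral s.Y']
    (h3 : ∃ (t : Bivar.Sq s.f' s.δX' s.δY') (_ : IrreducibleSpace t.Y') (_ : IsProper t.g),
      t.g (genericPoint t.Y') = genericPoint s.Y' ∧ IsIso (t.g.stalkMap (genericPoint t.Y')) ∧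
      ∀ (k : ℤ) (α : AlgebraicCycle t.Y' ℤ) (hα : α ∈ Cyc.Zk t.Y' t.δY' k),
        α (genericPoint t.Y') = 1 → (∀ y : t.Y', y ≠ genericPoint t.Y' → α y = 0) →
        c.op (s.paste t) k (ChowOps.cl α hα) = 0)
    (k : ℤ) (α : AlgebraicCycle s.Y' ℤ) (hα : α ∈ Cyc.Zk s.Y' s.δY' k)
    (hsupp : ∀ y, y ≠ genericPoint s.Y' → α y = 0) : c.op s k (ChowOps.cl α hα) = 0 := by
  obtain ⟨t, _, _, hgen, _, hv⟩ := h3
  haveI := t.lft
  by_cases hn : α (genericPoint s.Y') = 0
  · have h0 : α = 0 := DFunLike.ext _ _ fun y => by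
      by_cases hy : y = genericPoint s.Y'
      · rw [hy]; exact hn
      · exact hsupp y hy
    rw [Bivar.cl_congr h0 hα (ChowOps.zk _ _ k).zero_mem, Bivar.cl_zero, map_zero]
  have hk : s.δY' (genericPoint s.Y') = k := by_contra fun h => hn (hα _ h)
  set η := genericPoint t.Y' with hη
  have hsurj := residueFieldMap_surjective_of_isIso t.g η
  have hkt : t.δY' η = k := by
    rw [CycLib.delta_eq_of_surjective t.g t.compatY hsurj, hgen, hk]
  let T := s.paste t
  haveI : IsProper t.g' := MorphismProperty.of_isPullback t.isPullback ‹_›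
  have hβ : pt η 1 ∈ Cyc.Zk T.Y' T.δY' k := pt_mem η 1 hkt
  obtain ⟨γ, hγ, e1, e2⟩ := c.push s T t.g t.g' rfl t.isPullback.w.symm rfl k (pt η 1) hβ
  have h1 : ChowOps.cl γ hγ = 0 := e1.symm.trans (hv k _ hβ (pt_self _ _) fun y hy => pt_ne 1 hy)
  have hsX := FlatClass.isSetup_X' hX s
  have hTX := FlatClass.isSetup_X' hX T
  rw [← PushClass.mapCH_cl t.g' hTX hsX t.compatX hγ, h1, map_zero,
    Bivar.cl_congr ((map_pt t.g t.compatY η hsurj).trans (by rw [hgen])) _
      (pt_mem (genericPoint s.Y') 1 hk)] at e2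
  have h2 : ChowOps.cl α hα =
      α (genericPoint s.Y') • ChowOps.cl (pt (genericPoint s.Y') 1) (pt_mem _ 1 hk) := by
    show ChowOps.clHom _ _ _ ⟨α, hα⟩ = α (genericPoint s.Y') • ChowOps.clHom _ _ _ ⟨_, pt_mem _ 1 hk⟩
    rw [← map_zsmul]
    refine congrArg _ (Subtype.ext (DFunLike.ext _ _ fun y => ?_))
    simp only [AddSubgroupClass.coe_zsmul, Function.locallyFinsuppWithin.coe_zsmul, Pi.smul_apply, smul_eq_mul]
    by_cases hy : y = genericPoint s.Y'
    · rw [hy, pt_self, mul_one]
    · rw [hsupp y hy, pt_ne 1 hy, mul_zero]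
  rw [h2, map_zsmul, e2, zsmul_zero]

end Groth.Agent.BivVan
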