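import Groth.Agent.BivVan.Basic

/-! A bivariant class vanishing on integral test schemes is zero. -/

set_option autoImplicit false
set_option linter.style.haveILetI false
set_option backward.isDefEq.respectTransparency false
set_option backward.isDefEq.respectTransparency.types false

universe u

open AlgebraicGeometry CategoryTheory Limits
open Groth.Agent.H23 Groth.Agent.H23.FlatShift

namespace Groth.Agent.BivVan

theorem isClosedImmersion_sigmaMap {σ : Type u} {g h : σ → Scheme.{u}} (φ : ∀ i, g i ⟶ h i)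
    [∀ i, IsClosedImmersion (φ i)] : IsClosedImmersion (Limits.Sigma.map φ) := by
  refine (IsZariskiLocalAtTarget.iff_of_openCover (P := @IsClosedImmersion) (sigmaOpenCover h)).mpr fun i => ?_
  have H := (ModPairLib.isPullback_sigmaMap φ i).flip
  have : IsClosedImmersion (H.isoPullback.hom ≫ pullback.snd (Limits.Sigma.map φ) (Sigma.ι h i)) := by
    rw [IsPullback.isoPullback_hom_snd]; infer_instance
  exact (MorphismProperty.cancel_left_of_respectsIso @IsClosedImmersion _ _).mp this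

theorem mem_range_sigmaι {σ : Type u} {Z : σ → Scheme.{u}} (z : ↥(∐ Z)) : ∃ i, z ∈ Set.range (Sigma.ι Z i) := by
  obtain ⟨⟨i, w⟩, hw⟩ := (sigmaMk Z).surjective z
  exact ⟨i, w, by rw [← sigmaMk_mk]; exact hw⟩

theorem isClosed_range_sigmaι {σ : Type u} (Z : σ → Scheme.{u}) (i : σ) :
    IsClosed (Set.range (Sigma.ι Z i)) := by
  refine ⟨?_⟩
  have h : (Set.range (Sigma.ι Z i))ᶜ = ⋃ j ∈ {j | j ≠ i}, Set.range (Sigma.ι Z j) := by
    ext z
    simp only [Set.mem_compl_iff, Set.mem_iUnion, Set.mem_setOf_eq, exists_prop]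
    obtain ⟨j, w, rfl⟩ := mem_range_sigmaι z
    refine ⟨fun h => ⟨j, fun e => h (by subst e; exact ⟨w, rfl⟩), w, rfl⟩, ?_⟩
    rintro ⟨j', hne, w', hw'⟩ ⟨v, hv⟩
    obtain ⟨rfl⟩ := (sigmaι_eq_iff Z _ _ _ _).mp (hw'.trans hv.symm)
    exact hne rfl
  rw [h]
  exact isOpen_biUnion fun j _ => (Sigma.ι Z j).isOpenEmbedding.isOpen_range

variable {X Y : Scheme.{u}} {f : X ⟶ Y} {δX : X → ℤ} {δY : Y → ℤ} {p : ℤ}

theorem op_eq_zero (hX : Cyc.IsSetup X δX) (hY : Cyc.IsSetup Y δY) (c : Bivar.Cl p f δX δY)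
    (h3 : ∀ (s : Bivar.Sq f δX δY) [IsIntegral s.Y'],
      ∃ (t : Bivar.Sq s.f' s.δX' s.δY') (_ : IrreducibleSpace t.Y') (_ : IsProper t.g),
      t.g (genericPoint t.Y') = genericPoint s.Y' ∧ IsIso (t.g.stalkMap (genericPoint t.Y')) ∧
      ∀ (k : ℤ) (α : AlgebraicCycle t.Y' ℤ) (hα : α ∈ Cyc.Zk t.Y' t.δY' k),
        α (genericPoint t.Y') = 1 → (∀ y : t.Y', y ≠ genericPoint t.Y' → α y = 0) →
        c.op (s.paste t) k (ChowOps.cl α hα) = 0)
    (s : Bivar.Sq f δX δY) (k : ℤ) (α : AlgebraicCycle s.Y' ℤ) (hα : α ∈ Cyc.Zk s.Y' s.δY' k) :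
    c.op s k (ChowOps.cl α hα) = 0 := by
  classical
  let I : Type u := {ξ : s.Y' // α ξ ≠ 0}
  choose Z ι hι hint hgen using fun i : I => exists_integral_closed i.1
  haveI := hι
  haveI := hint
  let q : (∐ Z) ⟶ s.Y' := Sigma.desc ι
  haveI : IsFinite q := by
    let cc : (∐ Z) ⟶ ∐ fun _ : I => s.Y' := Limits.Sigma.map ι
    haveI : IsClosedImmersion cc := isClosedImmersion_sigmaMap ι
    have hc : cc ≫ Sigma.desc (fun _ : I => 𝟙 s.Y') = q := Sigma.hom_ext _ _ fun i => by simp [cc, q]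
    haveI : QuasiCompact (cc ≫ Sigma.desc fun _ : I => 𝟙 s.Y') := by
      rw [hc, quasiCompact_iff_forall_isAffineOpen]
      intro U hU
      let F : Set I := Subtype.val ⁻¹' ((U : Set s.Y') ∩ Function.support ⇑α)
      have hF : F.Finite := (CycLib.finite_support_inter_affine α hU).preimage Subtype.val_injective.injOn
      have he : q ⁻¹' (U : Set s.Y') = ⋃ i ∈ F, Sigma.ι Z i '' (ι i ⁻¹' (U : Set s.Y')) := by
        ext z
        obtain ⟨i, w, rfl⟩ := mem_range_sigmaι z
        have hq : q (Sigma.ι Z i w) = ι i w := by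
          rw [← Scheme.Hom.comp_apply, Sigma.ι_desc]
        simp only [Set.mem_preimage, SetLike.mem_coe, Set.mem_iUnion, Set.mem_image, exists_prop]
        constructor
        · intro hw
          rw [hq] at hw
          refine ⟨i, ⟨?_, i.2⟩, w, hw, rfl⟩
          rw [← hgen i]
          exact (((genericPoint_spec (Z i)).specializes trivial).map (ι i).continuous).mem_open U.2 hw
        · rintro ⟨j, -, v, hv, e⟩
          rw [← e, ← Scheme.Hom.comp_apply, Sigma.ι_desc]
          exact hv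
      show IsCompact (q ⁻¹' (U : Set s.Y'))
      rw [he]
      exact hF.isCompact_biUnion fun i _ =>
        ((ι i).isCompact_preimage hU.isCompact).image (Sigma.ι Z i).continuous
    rw [← hc]
    exact GrpSchLib.TwConstClosed.isFinite_of_const I cc
  haveI := s.lft
  haveI : LocallyOfFiniteType (pullback.snd q s.f') := inferInstance
  let t : Bivar.Sq s.f' s.δX' s.δY' :=
    ⟨∐ Z, pullback q s.f', q, pullback.fst q s.f', pullback.snd q s.f', IsPullback.of_hasPullback q s.f',
      inferInstance, fun y => s.δY' (q y) + FibDim.rd q y,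
      fun y => s.δX' (pullback.snd q s.f' y) + FibDim.rd (pullback.snd q s.f') y,
      ChowDesc.deltaCompat_rd _ _, ChowDesc.deltaCompat_rd _ _⟩
  let T := s.paste t
  let gz : I → ↥(∐ Z) := fun i => Sigma.ι Z i (genericPoint (Z i))
  have hqg : ∀ i, q (gz i) = i.1 := fun i => by
    show q (Sigma.ι Z i _) = _
    rw [← Scheme.Hom.comp_apply, Sigma.ι_desc]
    exact hgen i
  have hres : ∀ i, Function.Surjective (q.residueFieldMap (gz i)).hom := fun i a => by
    haveI : IsPreimmersion (Sigma.ι Z i ≫ q) := by rw [Sigma.ι_desc]; infer_instance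
    obtain ⟨b, hb⟩ := (CycLib.residueFieldMap_bijective (Sigma.ι Z i ≫ q) (genericPoint (Z i))).2
      (((Sigma.ι Z i).residueFieldMap (genericPoint (Z i))).hom a)
    refine ⟨b, RingHom.injective ((Sigma.ι Z i).residueFieldMap (genericPoint (Z i))).hom ?_⟩
    rw [← hb, Scheme.residueFieldMap_comp]
    rfl
  have hδg : ∀ i, t.δY' (gz i) = k := fun i => by
    refine (CycLib.delta_eq_of_surjective q t.compatY (hres i)).trans ?_
    rw [hqg]
    exact by_contra fun h => i.2 (hα _ h)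
  let β : AlgebraicCycle T.Y' ℤ :=
    { toFun := fun z => if z ∈ Set.range gz then α (q z) else 0
      supportWithinDomain' := fun _ _ => trivial
      supportLocallyFiniteWithinDomain' := fun z _ => by
        obtain ⟨i, hi⟩ := mem_range_sigmaι z
        refine ⟨Set.range (Sigma.ι Z i), (Sigma.ι Z i).isOpenEmbedding.isOpen_range.mem_nhds hi,
          (Set.finite_singleton (gz i)).subset ?_⟩
        rintro y ⟨⟨w, rfl⟩, hy⟩
        have hy' : (if Sigma.ι Z i w ∈ Set.range gz then α (q (Sigma.ι Z i w)) else 0) ≠ 0 := hy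
        split_ifs at hy' with h
        · obtain ⟨j, hj⟩ := h
          obtain ⟨rfl⟩ := (sigmaι_eq_iff Z _ _ _ _).mp hj
          rfl
        · exact absurd rfl hy' }
  have hβg : ∀ i, β (gz i) = α i.1 := fun i => by
    show (if gz i ∈ Set.range gz then α (q (gz i)) else 0) = _
    rw [if_pos ⟨i, rfl⟩, hqg]
  have hβne : ∀ z, z ∉ Set.range gz → β z = 0 := fun z h => if_neg h
  have hβ : β ∈ Cyc.Zk T.Y' T.δY' k := fun z hz => by
    refine hβne z ?_
    rintro ⟨i, rfl⟩
    exact hz (hδg i)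
  have hmap : AlgebraicCycle.map q t.δY' s.δY' β = α := by
    refine DFunLike.ext _ _ fun x => ?_
    rw [CycLib.map_apply']
    by_cases hx : α x = 0
    · rw [hx]
      refine finsum_mem_eq_zero_of_forall_eq_zero fun z hz => ?_
      rw [hβne z ?_, zero_mul]
      rintro ⟨i, rfl⟩
      exact i.2 (by rw [← hqg i, Set.mem_singleton_iff.1 hz]; exact hx)
    · rw [finsum_mem_eq_sum_of_inter_support_eq _ (t := {gz ⟨x, hx⟩}) ?_, Finset.sum_singleton, hβg]
      · simp [AlgebraicCycle.mapCoeff, CycLib.delta_eq_of_surjective q t.compatY (hres ⟨x, hx⟩),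
          CycLib.residueDegree_of_surjective q (hres ⟨x, hx⟩)]
      ext z
      simp only [Set.mem_inter_iff, Set.mem_preimage, Set.mem_singleton_iff, Function.mem_support,
        Finset.coe_singleton]
      refine ⟨fun ⟨h1, h2⟩ => ?_, fun ⟨h1, h2⟩ => ⟨by rw [h1, hqg], h2⟩⟩
      by_cases hz : z ∈ Set.range gz
      · obtain ⟨i, rfl⟩ := hz
        exact ⟨congrArg gz (Subtype.ext ((hqg i).symm.trans h1)), h2⟩
      · exact absurd (by rw [hβne z hz, zero_mul]) h2
  haveI : IsProper t.g := inferInstanceAs (IsProper q)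
  haveI : IsProper t.g' := inferInstanceAs (IsProper (pullback.snd q s.f'))
  obtain ⟨γ, hγ, e1, e2⟩ := c.push s T q t.g' rfl t.isPullback.w.symm rfl k β hβ
  have hsX := FlatClass.isSetup_X' hX s
  have hTX := FlatClass.isSetup_X' hX T
  haveI := hTX.1
  rw [← PushClass.mapCH_cl t.g' hTX hsX t.compatX hγ, Bivar.cl_congr hmap _ hα] at e2
  rw [e2]
  suffices h : ChowOps.cl γ hγ = 0 by rw [h, map_zero]
  have key : ∀ i : I, RatOn.ZeroOn T.δX' (k - p) (Set.range (pullback.fst T.f' (Sigma.ι Z i)))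
      fun x => if x ∈ Set.range (pullback.fst T.f' (Sigma.ι Z i)) then γ x else 0 := by
    intro i
    let j := pullback.fst T.f' (Sigma.ι Z i)
    let v : Bivar.Sq T.f' T.δX' T.δY' :=
      ⟨Z i, pullback T.f' (Sigma.ι Z i), Sigma.ι Z i, pullback.snd _ _, j,
        (IsPullback.of_hasPullback T.f' (Sigma.ι Z i)).flip, inferInstance,
        fun y => T.δY' (Sigma.ι Z i y) + FibDim.rd (Sigma.ι Z i) y,
        fun y => T.δX' (j y) + FibDim.rd j y, ChowDesc.deltaCompat_rd _ _, ChowDesc.deltaCompat_rd _ _⟩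
    let U := T.paste v
    haveI : IsClosedImmersion j := by
      refine IsClosedImmersion.of_isPreimmersion j ?_
      show IsClosed (Set.range (pullback.fst T.f' (Sigma.ι Z i)))
      rw [Scheme.Pullback.range_fst]
      exact (isClosed_range_sigmaι Z i).preimage T.f'.continuous
    haveI : Flat (Sigma.ι Z i) := inferInstance
    haveI : Flat j := inferInstance
    obtain ⟨β₀, hβ₀, e3, hP⟩ := c.pull T U (Sigma.ι Z i) j 0 (hasRelDim_openImmersion _)
      (hasRelDim_openImmersion _) rfl pullback.condition rfl k β hβ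
    have hsv := CycLib.delta_eq_of_surjective (Sigma.ι Z i) v.compatY
      (residueFieldMap_surjective_of_isIso (Sigma.ι Z i) (genericPoint (Z i)))
    have hα₁ : pt (genericPoint (Z i)) (α i.1) ∈ Cyc.Zk U.Y' U.δY' (k + ((0 : ℕ) : ℤ)) :=
      pt_mem _ _ (hsv.trans ((hδg i).trans (by simp)))
    obtain ⟨β₁, hβ₁, hb, e4⟩ := hP (pt (genericPoint (Z i)) (α i.1)) (funext fun z => by
      rw [show ((0 : ℕ) : ℤ) = 0 from rfl, pullFun_openImmersion _ v.compatY]
      by_cases hz : z = genericPoint (Z i)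
      · rw [hz, pt_self]
        exact (hβg i).symm
      · rw [pt_ne _ hz]
        refine (hβne _ ?_).symm
        rintro ⟨i', hi'⟩
        obtain ⟨rfl⟩ := (sigmaι_eq_iff Z _ _ _ _).mp hi'
        exact hz rfl) hα₁
    have hUX := FlatClass.isSetup_X' hX U
    haveI := hUX.1
    haveI : IsIntegral U.Y' := hint i
    rw [op_eq_zero_integral hX c U (h3 U) _ _ hα₁ fun y hy => pt_ne _ hy] at e4
    have hsh : HasShift j U.δX' T.δX' ((0 : ℕ) : ℤ) :=
      hasShift_of_hasRelDim j (hasRelDim_openImmersion j) v.compatX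
    have hl : k + ((0 : ℕ) : ℤ) - p = k - p + ((0 : ℕ) : ℤ) := by simp
    have e5 : ChowOps.cl (FlatClass.pullCycle hsh hUX.2.2 γ) (FlatClass.pullCycle_mem hsh hUX.2.2 hγ hl) = 0 := by
      rw [← FlatClass.pullCH_cl hsh hTX hUX hl hγ rfl (FlatClass.pullCycle_mem hsh hUX.2.2 hγ hl),
        e1.symm.trans e3, FlatClass.pullCH_cl hsh hTX hUX hl hβ₀ hb hβ₁, ← e4]
    have hz : RatOn.ZeroOn U.δX' (k + ((0 : ℕ) : ℤ) - p) Set.univ (fun w => γ (j w)) := by
      refine RatOn.congr (RatOn.of_ratEquivZero (ratEquivZero_of_cl_eq_zero hUX _ e5)) fun w => ?_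
      show γ (j w) = Cyc.pullFun j U.δX' T.δX' ((0 : ℕ) : ℤ) ⇑γ w
      rw [show ((0 : ℕ) : ℤ) = 0 from rfl, pullFun_openImmersion j v.compatX]
    have hδj : U.δX' = fun w => T.δX' (j w) := funext fun w =>
      CycLib.delta_eq_of_surjective j v.compatX (residueFieldMap_surjective_of_isIso j w)
    rw [show k + ((0 : ℕ) : ℤ) - p = k - p by simp, hδj] at hz
    refine RatOn.mono (RatOn.push j hz (fun w => ?_) fun x hx => if_neg hx) (Set.image_subset_range _ _)
    rw [if_pos ⟨w, rfl⟩]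
  have hdisj : ∀ (i i' : I) (x : T.X'), x ∈ Set.range (pullback.fst T.f' (Sigma.ι Z i)) →
      x ∈ Set.range (pullback.fst T.f' (Sigma.ι Z i')) → i = i' := by
    intro i i' x h h'
    rw [Scheme.Pullback.range_fst] at h h'
    obtain ⟨w, hw⟩ := h
    obtain ⟨w', hw'⟩ := h'
    obtain ⟨rfl⟩ := (sigmaι_eq_iff Z _ _ _ _).mp (hw.trans hw'.symm)
    rfl
  have hmem : ∀ x : T.X', ∃ i, x ∈ Set.range (pullback.fst T.f' (Sigma.ι Z i)) := fun x => by
    obtain ⟨i, hi⟩ := mem_range_sigmaι (T.f' x)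
    exact ⟨i, by rw [Scheme.Pullback.range_fst]; exact hi⟩
  refine (ChowDesc.cl_eq_of_ratEquiv hγ (ChowOps.zk T.X' T.δX' (k - p)).zero_mem ?_).trans Bivar.cl_zero
  show Cyc.RatEquivZero T.δX' (k - p) (γ - 0)
  rw [sub_zero]
  refine RatOn.ratEquivZero (T := Set.univ) (RatOn.congr (RatOn.sum hTX.2.2 (fun _ => (1 : ℤ)) _ _
    (fun i => Set.subset_univ _) key fun x => ?_) fun x => ?_)
  · obtain ⟨i, hi⟩ := hmem x
    refine ⟨_, (pullback.fst T.f' (Sigma.ι Z i)).isOpenEmbedding.isOpen_range, hi,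
      (Set.finite_singleton i).subset ?_⟩
    rintro i' ⟨⟨z, hz, hz'⟩, -⟩
    exact hdisj i' i z hz hz'
  · obtain ⟨i, hi⟩ := hmem x
    rw [finsum_eq_single _ i fun i' hne => by rw [if_neg fun h => hne (hdisj i' i x h hi), mul_zero],
      if_pos hi, one_mul]

end Groth.Agent.BivVan
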